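import Cfsg.Agent.H569.PD.LargeC
import Cfsg.Agent.KFacts.CoTwo.InnerB
import Cfsg.Agent.KFacts.Baby.RowB
import Cfsg.Agent.H291.SCBaby

/-!
# The row of S4246 for `B` (helper569)
-/

set_option autoImplicit false

namespace Cfsg.Agent.H569.PD

open Subgroup Cfsg Cfsg.Agent.H160.PD

section

open Cfsg.Agent.BabyM Cfsg.Agent.BabyM.Model Cfsg.Agent.BabyU.ClosModel Cfsg.Agent.BabyU.ClosLane

theorem row_b_model [IsSimpleGroup Inst.M.G] (hsc : Cfsg.Agent.H537.Cop.SC 47 Inst.M.G)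
    (hc : Nat.card Inst.M.G = 4154781481226426191177580544000000) : Row Inst.M.G := by
  have hfin := A.finite_G
  have D := Cfsg.Agent.KFacts.Baby.Sheet.data Cfsg.Agent.KFacts.CoTwo.InnerB.inner Cfsg.Agent.KFacts.Baby.Row.fix
  exact row_zero (na_of_card (by rw [hc]; norm_num)) (out_eq_one D.allInner) (r := 47) (by norm_num) (by norm_num)
    (by rw [hc]; norm_num) hsc (TwoC.of_large D.large) (v_of_odd_index D.odd)

end

/-- **The row of `B`.** -/
theorem row_b (hK : Cfsg.Agent.H995.CopEngine.AllKnown.{0}) {K : Type*} [Group K] [Finite K] [IsSimpleGroup K]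
    (h : Spor.IsoB K) : Row K := by
  obtain ⟨e⟩ := h
  obtain ⟨f⟩ := Cfsg.Agent.KFacts.Baby.RowB.exists_iso ⟨MulEquiv.refl Cfsg.Spor.BabyMonster⟩
  have := simple_congr (e.trans f.symm)
  refine Row.congr (e.trans f.symm) (row_b_model (Cfsg.Agent.H537.Cop.SC.congr f (Cfsg.Agent.H291.SCBaby.sc hK)) ?_)
  rw [Nat.card_congr f.toEquiv]
  exact Cfsg.Agent.S1704.result.2

end Cfsg.Agent.H569.PD
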