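import Cfsg.Agent.H569.PD.NoComp
import Cfsg.Agent.CTwoTab.Fi22
import Cfsg.Agent.OddHalf.Table.OutFi22
import Cfsg.Agent.H408.SporSelf

/-!
# The row of S4246 for `Fi22` (helper569)
-/

set_option autoImplicit false

namespace Cfsg.Agent.H569.PD

open Subgroup Cfsg Cfsg.Agent.H160.PD

namespace Fi22

open Cfsg.Agent.CTwoTab.Fi22
open Cfsg.Agent.R08.AutT (T)
open Cfsg.Agent.OddHalf.D4.Spor.Fi22 (inv_cases)
open Cfsg.Agent.StdFi22.MainFi22 (bas)

theorem sc (x : Spor.Fi22) (hx : orderOf x = 13) : Nat.card (centralizer ({x} : Set Spor.Fi22)) = 13 := by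
  obtain ⟨-, h2⟩ := (H836.Main.thirteen_concl (MulEquiv.refl Spor.Fi22)).2 (zpowers x) (by rw [Nat.card_zpowers, hx])
  rw [H408.SporEng.centralizer_zpowers_eq] at h2
  rw [h2, Nat.card_zpowers, hx]

theorem two_pair {a b : Spor.Fi22} (ha : a ∈ T) (hb : b ∈ T) (hab : a ≠ b) (cab : a * b = b * a) :
    ∃ R : Subgroup Spor.Fi22, TwoC (a * b) R := by
  obtain ⟨R, F⟩ := facts ha hb hab cab
  refine ⟨R, ?_, ?_, F.R_two, ?_⟩
  · intro x hx
    obtain ⟨h1, h2⟩ := mem_pair.1 (F.R_le hx)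
    exact comm_mul h1 h2
  · intro c hc r hr
    exact F.R_normal c hc r hr
  · intro c _ h
    rcases F.R_center c h with rfl | rfl | rfl | rfl
    · exact one_mem _
    · exact F.d_mem
    · exact F.d'_mem
    · exact mul_mem F.d_mem F.d'_mem

theorem hc : Nat.card Spor.Fi22 = 64561751654400 := NotCT.Orders.fi22 (K := Spor.Fi22) ⟨MulEquiv.refl _⟩

theorem hv : v 2 Spor.Fi22 = 17 := fact_two (m := 492567075) (by rw [hc]; norm_num) (by norm_num)

theorem classes (u : Spor.Fi22) (hu : orderOf u = 2) (huv : v 2 (centralizer {u}) = v 2 Spor.Fi22) :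
    ∃ R : Subgroup Spor.Fi22, TwoC u R := by
  have hfin : Finite Spor.Fi22 := finite
  have hv := hv
  have uu : u * u = 1 := by rw [← pow_two, ← hu, pow_orderOf_eq_one]
  have u1 : u ≠ 1 := by
    rintro rfl
    rw [orderOf_one] at hu
    omega
  rcases inv_cases uu u1 with h | ⟨a, ha, b, hb, hab, cab, rfl⟩ | ⟨a, b, c, h, rfl⟩
  · exfalso
    obtain ⟨b, c, ht⟩ := bas.exists_tri h
    obtain ⟨R, F⟩ := facts h ht.my ht.xy ht.cxy
    have h1 : v 2 (centralizer ({u} : Set Spor.Fi22)) = 16 :=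
      fact_two (m := 280665) (by rw [card_cent F]; norm_num) (by norm_num)
    omega
  · exact two_pair ha hb hab cab
  · exact ⟨_, TwoC.of_no_comp (core hu) (no_comp_three h)⟩

end Fi22

theorem row_fi22_model [IsSimpleGroup Spor.Fi22] : Row Spor.Fi22 := by
  have hc := Fi22.hc
  have hfin : Finite Spor.Fi22 := Nat.finite_of_card_ne_zero (by rw [hc]; norm_num)
  have hv := Fi22.hv
  exact row_one' (na_of_card (by rw [hc]; norm_num)) (out_of_mul Cfsg.Agent.OddHalf.Table.OutFi22.mul_outer)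
    (r := 13) (by norm_num) (by norm_num) (by rw [hc]; norm_num) Fi22.sc Fi22.classes (by rw [hv]; norm_num)

/-- **The row of `Fi22`.** -/
theorem row_fi22 {K : Type*} [Group K] [Finite K] [IsSimpleGroup K] (h : Spor.IsoFi22 K) : Row K := by
  obtain ⟨e⟩ := h
  have := simple_congr e
  exact row_fi22_model.congr e

end Cfsg.Agent.H569.PD
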