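import Cfsg.Agent.H569.PD.Lift
import Cfsg.Agent.H569.PD.Fi22
import Cfsg.Agent.KFacts.FiTTh.Has
import Cfsg.Agent.KFacts.FiTTh.Quasi

/-!
# The row of S4246 for `Fi23` (helper569)
-/

set_option autoImplicit false

namespace Cfsg.Agent.H569.PD

open Subgroup Cfsg Cfsg.Agent.H160.PD

/-- the centralisers of the elements of odd prime order in `Fi22` -/
theorem v_fi22 {y : Spor.Fi22} (hy : (orderOf y).Prime) (hy2 : orderOf y ≠ 2) :
    v 2 (centralizer {y}) + 1 < v 2 Spor.Fi22 := by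
  have hfin : Finite Spor.Fi22 := Cfsg.Agent.CTwoTab.Fi22.finite
  exact v_lt_one' Fi22.classes (by rw [Fi22.hv]; norm_num) hy hy2

namespace Fi23

open Cfsg.Agent.Fischer.Fi23Z Cfsg.Agent.Fischer.Fi23Hom
open Cfsg.Agent.Fischer Cfsg.Agent.Fischer.Fi23Class Cfsg.Agent.Fischer.Fi23Simple
open Cfsg.Agent.KFacts.FiTTh.Cent
open Cfsg.Spor

theorem hc : Nat.card Spor.Fi23 = 4089470473293004800 := NotCT.Orders.fi23 (K := Spor.Fi23) ⟨MulEquiv.refl _⟩

theorem finite : Finite Spor.Fi23 := Nat.finite_of_card_ne_zero (by rw [hc]; norm_num)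

theorem hv : v 2 Spor.Fi23 = 18 := fact_two (m := 15600091832325) (by rw [hc]; norm_num) (by norm_num)

theorem sc (x : Spor.Fi23) (hx : orderOf x = 23) : Nat.card (centralizer ({x} : Set Spor.Fi23)) = 23 := by
  obtain ⟨-, h2⟩ := H839.Fi23.twentythree_main (zpowers x) (by rw [Nat.card_zpowers, hx])
  rw [H408.SporEng.centralizer_zpowers_eq] at h2
  rw [h2, Nat.card_zpowers, hx]

/-- the homomorphism `C(z0) → Fi22` -/
theorem exists_hom : ∃ φ : ↥(centralizer ({z0} : Set Spor.Fi23)) →* Spor.Fi22, Nat.card φ.ker = 2 ∧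
    Nat.card ↥(centralizer ({z0} : Set Spor.Fi23)) = 2 * Nat.card Spor.Fi22 := by
  rw [← K_eq]
  obtain ⟨h1, ⟨e⟩, -⟩ := KFacts.FiTTh.Quasi.cover
  refine ⟨e.toMonoidHom.comp (QuotientGroup.mk' (center _)), ?_, ?_⟩
  · rw [← h1]
    congr 1
    have : (e.toMonoidHom.comp (QuotientGroup.mk' (center (K : Subgroup Spor.Fi23)))).ker =
        center ↥(K : Subgroup Spor.Fi23) := by
      ext x
      rw [MonoidHom.mem_ker, MonoidHom.comp_apply]
      change e _ = 1 ↔ _
      rw [EmbeddingLike.map_eq_one_iff]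
      exact QuotientGroup.eq_one_iff x
    rw [this]
  · rw [card_eq_card_quotient_mul_card_subgroup (center ↥(K : Subgroup Spor.Fi23)), h1, Nat.card_congr e.toEquiv, mul_comm]

theorem z0_order : orderOf (z0 : Spor.Fi23) = 2 :=
  orderOf_eq_prime (by rw [pow_two]; exact KFacts.FiTTh.Cent.zz) KFacts.FiTTh.BasFi.z0_ne

end Fi23

open Cfsg.Agent.Fischer.Fi23Z in
theorem row_fi23_model [IsSimpleGroup Spor.Fi23] : Row Spor.Fi23 := by
  have hfin : Finite Spor.Fi23 := Fi23.finite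
  have hfin2 : Finite Spor.Fi22 := Cfsg.Agent.CTwoTab.Fi22.finite
  have hout : out Spor.Fi23 = 1 := out_eq_one KFacts.FiTTh.Has.inn
  refine row_of (e := 0) (r := 23) (na_of_card (by rw [Fi23.hc]; norm_num)) (oi_of_out (Or.inl hout)) (by norm_num)
    (by norm_num) (by rw [Fi23.hc]; norm_num) (by rw [hout]; norm_num) Fi23.sc (by rw [hout]; simp) fun y hy hy2 => ?_
  obtain ⟨φ, hk, hcc⟩ := Fi23.exists_hom
  have h22 := Fi22.hv
  have hvc : v 2 (centralizer ({z0} : Set Spor.Fi23)) = 18 := by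
    refine fact_two (m := 492567075) ?_ (by norm_num)
    rw [hcc, Fi22.hc]
    norm_num
  have hvk : v 2 φ.ker = 1 := fact_two (m := 1) (by rw [hk]; norm_num) (by norm_num)
  refine v_lt_zero_of_hom (z := z0) Fi23.z0_order (by rw [hvc, Fi23.hv]) φ (IsPGroup.of_card (n := 1) (by rw [hk, pow_one]))
    (by rw [h22, hvk, Fi23.hv]) (fun w hw hw2 => ?_) hy hy2
  have := v_fi22 hw hw2
  omega

/-- **The row of `Fi23`.** -/
theorem row_fi23 {K : Type*} [Group K] [Finite K] [IsSimpleGroup K] (h : Spor.IsoFi23 K) : Row K := by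
  obtain ⟨e⟩ := h
  have := simple_congr e
  exact row_fi23_model.congr e

end Cfsg.Agent.H569.PD
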