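import Cfsg.Agent.H569.PD.Tools
import Cfsg.Agent.CTwoTab.FiTF
import Cfsg.Agent.H408.SporSelf

/-!
# The row of S4246 for `Fi24'` (helper569)
-/

set_option autoImplicit false

namespace Cfsg.Agent.H569.PD

open Subgroup Cfsg Cfsg.Agent.H160.PD

theorem sc_of_self {G : Type*} [Group G] [Finite G] {r : ℕ} (hr : r.Prime) (hd : ¬ r * r ∣ Nat.card G)
    (h : H408.SporEng.Self r G) (x : G) (hx : orderOf x = r) : Nat.card (centralizer ({x} : Set G)) = r := by
  obtain ⟨y, hy, hc⟩ := h
  rw [H689.card_centralizer_of_sylow hr hd hx hy, hc]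

namespace Fi24

open Cfsg.Spor Cfsg.Agent.R01 Cfsg.Agent.R08 Cfsg.Agent.R08.FiTwentyFour
open Cfsg.Agent.R08.TetTwo Cfsg.Agent.R08.TetThree Cfsg.Agent.R08.TetBasic
open Cfsg.Agent.CTwoTab.FiTF

local notation "Pr" => Cfsg.Agent.R08.TetFi24A.At

theorem hc : Nat.card Spor.Fi24' = 1255205709190661721292800 := NotCT.Orders.fi24 (K := Spor.Fi24') ⟨MulEquiv.refl _⟩

theorem finite : Finite Spor.Fi24' := Nat.finite_of_card_ne_zero (by rw [hc]; norm_num)

theorem hv : v 2 Spor.Fi24' = 21 := fact_two (m := 598528723330813275) (by rw [hc]; norm_num) (by norm_num)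

theorem twoC : TwoC z0 R0 where
  comm r hr := mem_centralizer_singleton_iff.1 (R0_le hr)
  norm c hc := R0_norm c (mem_centralizer_singleton_iff.2 hc)
  pg := R0_p
  self c _ h := by
    rcases R0_cent c h with rfl | rfl
    · exact R0.one_mem
    · exact z0_mem

theorem v_pair {a b : Fi24} (P : Pr a b) {t : Spor.Fi24'} (ht : (t : Fi24) = a * b) :
    v 2 (centralizer ({t} : Set Spor.Fi24')) ≤ 19 := by
  have hfin := finite
  have hi : (N a b).relIndex (centralizer ({t} : Set Spor.Fi24')) = 1 ∨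
      (N a b).relIndex (centralizer ({t} : Set Spor.Fi24')) = 2 := by
    by_cases h1 : centralizer ({t} : Set Spor.Fi24') ≤ N a b
    · exact Or.inl (relIndex_eq_one.2 h1)
    · right
      obtain ⟨c, hc, hcN⟩ := SetLike.not_le_iff_exists.1 h1
      have key : ∀ x ∈ centralizer ({t} : Set Spor.Fi24'), x ∉ N a b →
          ((x : Fi24) * a * (x : Fi24)⁻¹ = b ∧ (x : Fi24) * b * (x : Fi24)⁻¹ = a) := by
        intro x hx hxN
        rcases fix_or_swap P ht hx with h | h
        · exfalso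
          apply hxN
          rw [mem_N, mem_Cab]
          exact ⟨mem_commutator_iff.1 x.2, mul_inv_eq_iff_eq_mul.1 h.1, mul_inv_eq_iff_eq_mul.1 h.2⟩
        · exact h
      refine index_eq_two_iff.2 ⟨⟨c, hc⟩, fun b' => ?_⟩
      rw [mem_subgroupOf, mem_subgroupOf]
      by_cases hb : (b' : Spor.Fi24') ∈ N a b
      · exact Or.inr ⟨hb, fun h => hcN (((N a b).mul_mem_cancel_left hb).1 h)⟩
      · refine Or.inl ⟨?_, hb⟩
        obtain ⟨k1, k2⟩ := key c hc hcN
        obtain ⟨k3, k4⟩ := key b' b'.2 hb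
        have h3 : ∀ u v w : Fi24, (c : Fi24) * u * (c : Fi24)⁻¹ = v →
            (((b' : Spor.Fi24')) : Fi24) * v * (((b' : Spor.Fi24')) : Fi24)⁻¹ = w →
            (((b' : Spor.Fi24')) : Fi24) * (c : Fi24) * u = w * ((((b' : Spor.Fi24')) : Fi24) * (c : Fi24)) := by
          rintro u v w rfl rfl
          group
        rw [mem_N, mem_Cab]
        exact ⟨mem_commutator_iff.1 (((b' * ⟨c, hc⟩ : ↥(centralizer ({t} : Set Spor.Fi24'))) : Spor.Fi24')).2,
          h3 _ _ _ k1 k4, h3 _ _ _ k2 k3⟩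
  have h1 : Nat.card (N a b) * (N a b).relIndex (centralizer ({t} : Set Spor.Fi24')) =
      Nat.card (centralizer ({t} : Set Spor.Fi24')) := by
    have := card_mul_index ((N a b).subgroupOf (centralizer ({t} : Set Spor.Fi24')))
    rwa [Nat.card_congr (subgroupOfEquivOfLe (N_le ht)).toEquiv] at this
  have h2 : Nat.card (N a b) = 2 * 64561751654400 :=
    (Nat.card_congr (eN a b).toEquiv).trans (OddHalf.D4.Spor.FiTF.card_Cab P)
  rw [h2] at h1
  rcases hi with hi | hi <;> rw [hi] at h1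
  · have : v 2 (centralizer ({t} : Set Spor.Fi24')) = 18 :=
      fact_two (m := 492567075) (by rw [← h1]; norm_num) (by norm_num)
    omega
  · have : v 2 (centralizer ({t} : Set Spor.Fi24')) = 19 :=
      fact_two (m := 492567075) (by rw [← h1]; norm_num) (by norm_num)
    omega

theorem classes' (u : Spor.Fi24') (hu : orderOf u = 2) (huv : v 2 (centralizer {u}) = v 2 Spor.Fi24') :
    ∃ g : Spor.Fi24', u = g * z0 * g⁻¹ := by
  rcases classes u hu with ⟨a, b, P, h⟩ | h
  · have h1 := v_pair P h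
    have h2 := hv
    omega
  · exact h

theorem out_le : out Spor.Fi24' = 1 ∨ out Spor.Fi24' = 2 :=
  (Nat.dvd_prime Nat.prime_two).1 Cfsg.Agent.KFacts.FiTF.out

end Fi24

theorem row_fi24_model [IsSimpleGroup Spor.Fi24'] : Row Spor.Fi24' := by
  have hfin := Fi24.finite
  have hv := Fi24.hv
  exact row_one (na_of_card (by rw [Fi24.hc]; norm_num)) Fi24.out_le
    (r := 29) (by norm_num) (by norm_num) (by rw [Fi24.hc]; norm_num)
    (sc_of_self (by norm_num) (by rw [Fi24.hc]; norm_num) H408.SporSelf.fi24) Fi24.twoC Fi24.classes'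
    (by rw [hv]; norm_num)

/-- **The row of `Fi24'`.** -/
theorem row_fi24 {K : Type*} [Group K] [Finite K] [IsSimpleGroup K] (h : Spor.IsoFi24' K) : Row K := by
  obtain ⟨e⟩ := h
  have := simple_congr e
  exact row_fi24_model.congr e

end Cfsg.Agent.H569.PD
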