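import Cfsg.Agent.H569.PD.Tools
import Cfsg.Agent.CTwoTab.HN
import Cfsg.Agent.SigZeroHN.Main
import Cfsg.Agent.KFacts.HN.Sheet
import Cfsg.Agent.H94.CopHN

/-!
# The row of S4246 for `HN` (helper569)
-/

set_option autoImplicit false

namespace Cfsg.Agent.H569.PD

open Subgroup Cfsg Cfsg.Agent.H160.PD

namespace HN

open Cfsg.Agent.KFacts.HN Cfsg.Agent.HN.XWords Cfsg.Agent.HN.XStruct
open Cfsg.Agent.HN Cfsg.Agent.HN.Pres Cfsg.Agent.HN.P1408 Cfsg.Agent.HN.H0Basic

theorem mem_PP_iff {c : Cfsg.Spor.HN} (hc : c * W0 = W0 * c) : c ∈ PP := mem_PP.2 hc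

theorem twoC : TwoC W0 RS where
  comm r hr := mem_centralizer_singleton_iff.1 (RS_le_PP hr)
  norm c hc r hr := conj_RS (mem_PP.2 hc) hr
  pg := RS_isPGroup
  self := by
    intro c _ h
    rcases cent_RS h with h1 | h1 <;> rw [h1]
    · exact RS.one_mem
    · exact W0_mem_RS

end HN

theorem row_hn_model [IsSimpleGroup Spor.HN] : Row Spor.HN := by
  have hc := Cfsg.Agent.KFacts.HN.Classes.card_HN
  have hfin : Finite Spor.HN := Nat.finite_of_card_ne_zero (by rw [hc]; norm_num)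
  have hv : v 2 Spor.HN = 14 := fact_two (m := 16664484375) (by rw [hc]; norm_num) (by norm_num)
  refine row_one (na_of_card (by rw [hc]; norm_num)) Cfsg.Agent.KFacts.HN.out_index (r := 19) (by norm_num) (by norm_num)
    (by rw [hc]; norm_num) Cfsg.Agent.H94.CopHN.sc_nineteen HN.twoC ?_ (by rw [hv]; norm_num)
  intro u hu huv
  rcases SigZeroHN.card_centralizer_cases hu with ⟨-, h⟩ | ⟨h, -⟩
  · exfalso
    have h1 : v 2 (centralizer ({u} : Set Spor.HN)) = 11 := fact_two (m := 86625) (by rw [h]; norm_num) (by norm_num)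
    omega
  · obtain ⟨g, hg⟩ := isConj_iff.1 h.symm
    exact ⟨g, hg.symm⟩

/-- **The row of `HN`.** -/
theorem row_hn {K : Type*} [Group K] [Finite K] [IsSimpleGroup K] (h : Spor.IsoHN K) : Row K := by
  obtain ⟨e⟩ := h
  have := simple_congr e
  exact row_hn_model.congr e

end Cfsg.Agent.H569.PD
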