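import Cfsg.Agent.H160.PD.Crit
import Cfsg.Agent.Lib.NormalAbelian

/-!
# Rows of S4246 for sporadic groups: tools (helper569)

* `TwoC t R` : `R` is a normal 2-subgroup of `C(t)` with `C_{C(t)}(R) ≤ R`;
* `v_lt_zero` : `t` is 2-central: no element of odd prime order centralises a Sylow 2-subgroup;
* `v_lt_one` : all 2-central involutions are conjugate to `t`: no element of odd prime order centralises a subgroup
  of index 2 of a Sylow 2-subgroup;
* `row_of` : the criterion.
-/

set_option autoImplicit false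
set_option linter.unusedSectionVars false

namespace Cfsg.Agent.H569.PD

open Subgroup Cfsg.Agent.H160.PD
open scoped Pointwise

variable {K : Type*} [Group K]

/-- `C(t)` is 2-constrained with trivial core -/
structure TwoC (t : K) (R : Subgroup K) : Prop where
  comm : ∀ r ∈ R, r * t = t * r
  norm : ∀ c : K, c * t = t * c → ∀ r ∈ R, c * r * c⁻¹ ∈ R
  pg : IsPGroup 2 R
  self : ∀ c : K, c * t = t * c → (∀ r ∈ R, c * r = r * c) → c ∈ R

theorem TwoC.congr {L : Type*} [Group L] {t : K} {R : Subgroup K} (h : TwoC t R) (e : K ≃* L) :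
    TwoC (e t) (R.map e.toMonoidHom) where
  comm := by
    rintro _ ⟨r, hr, rfl⟩
    change e r * e t = e t * e r
    rw [← map_mul, ← map_mul, h.comm r hr]
  norm := by
    rintro c hc _ ⟨r, hr, rfl⟩
    have h1 : e.symm c * t = t * e.symm c := by
      apply e.injective
      rw [map_mul, map_mul, e.apply_symm_apply, hc]
    refine ⟨_, h.norm _ h1 r hr, ?_⟩
    change e (e.symm c * r * (e.symm c)⁻¹) = c * e r * c⁻¹
    rw [map_mul, map_mul, map_inv, e.apply_symm_apply]
  pg := h.pg.map _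
  self := by
    intro c hc hcr
    have h1 : e.symm c * t = t * e.symm c := by
      apply e.injective
      rw [map_mul, map_mul, e.apply_symm_apply, hc]
    refine ⟨e.symm c, h.self _ h1 fun r hr => ?_, by
      change e (e.symm c) = c
      rw [e.apply_symm_apply]⟩
    apply e.injective
    rw [map_mul, map_mul, e.apply_symm_apply]
    exact hcr _ ⟨r, hr, rfl⟩

theorem TwoC.conj {t : K} {R : Subgroup K} (h : TwoC t R) (g : K) :
    TwoC (g * t * g⁻¹) (R.map (MulAut.conj g).toMonoidHom) := h.congr (MulAut.conj g)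

/-- an element of odd order centralising a subgroup of index at most 2 of `R` centralises `R` -/
theorem TwoC.not_fix [Finite K] {t : K} {R D : Subgroup K} (h : TwoC t R) {y : K} (hy1 : y ≠ 1) (hyo : Odd (orderOf y))
    (hty : y * t = t * y) (hD : ∀ d ∈ D, y * d = d * y) (hi : D.relIndex R ≤ 2) : False := by
  have hi0 : D.relIndex R ≠ 0 := Subgroup.index_ne_zero_of_finite
  have key : ∀ r ∈ R, y * r = r * y := by
    intro r hr
    by_cases hrD : r ∈ D
    · exact hD r hrD
    have hi2 : (D.subgroupOf R).index = 2 := by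
      have h1 : (D.subgroupOf R).index ≠ 1 := by
        intro h1
        exact hrD (mem_subgroupOf.1 ((index_eq_one.1 h1) ▸ mem_top (⟨r, hr⟩ : R)))
      change D.relIndex R = 2
      change D.relIndex R ≠ 1 at h1
      omega
    have hyr : y * r * y⁻¹ ∈ R := h.norm y hty r hr
    -- the commutator
    have hdR : r⁻¹ * (y * r * y⁻¹) ∈ R := R.mul_mem (R.inv_mem hr) hyr
    have hnD : y * r * y⁻¹ ∉ D := by
      intro hc
      have h2 := hD _ hc
      apply hrD
      have h3 : y * r * y⁻¹ = r := by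
        have h4 : y * (y * r * y⁻¹) = y * r := by rw [h2]; group
        exact mul_left_cancel h4
      rwa [h3] at hc
    have hd : r⁻¹ * (y * r * y⁻¹) ∈ D := by
      have h2 := mul_mem_iff_of_index_two hi2 (a := (⟨r⁻¹, R.inv_mem hr⟩ : R)) (b := (⟨y * r * y⁻¹, hyr⟩ : R))
      rw [mem_subgroupOf, mem_subgroupOf, mem_subgroupOf] at h2
      refine h2.2 ⟨fun h3 => absurd (D.inv_mem_iff.1 h3) hrD, fun h3 => absurd h3 hnD⟩
    set d := r⁻¹ * (y * r * y⁻¹) with hdd
    have hyd := hD d hd
    have hpow : ∀ k : ℕ, y ^ k * r * (y ^ k)⁻¹ = r * d ^ k := by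
      intro k
      induction k with
      | zero => simp
      | succ k ih =>
        have h5 : y ^ (k + 1) * r * (y ^ (k + 1))⁻¹ = y * (y ^ k * r * (y ^ k)⁻¹) * y⁻¹ := by
          rw [pow_succ']; group
        have h6 : y * d ^ k = d ^ k * y := ((show Commute y d from hyd).pow_right k).eq
        rw [h5, ih]
        calc y * (r * d ^ k) * y⁻¹ = y * r * (d ^ k * y⁻¹) := by group
          _ = y * r * (y⁻¹ * d ^ k) := by
            rw [((show Commute y d from hyd).inv_left.pow_right k).eq]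
          _ = (r * d) * d ^ k := by rw [hdd]; group
          _ = r * d ^ (k + 1) := by rw [pow_succ']; group
    have h7 := hpow (orderOf y)
    rw [pow_orderOf_eq_one, one_mul, inv_one, mul_one] at h7
    have h8 : d ^ orderOf y = 1 := by
      have : r * d ^ orderOf y = r * 1 := by rw [← h7, mul_one]
      exact mul_left_cancel this
    obtain ⟨k, hk⟩ := h.pg ⟨d, hdR⟩
    have hk' : d ^ 2 ^ k = 1 := congrArg Subtype.val hk
    have h9 : orderOf d ∣ orderOf y := orderOf_dvd_of_pow_eq_one h8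
    have h10 : orderOf d ∣ 2 ^ k := orderOf_dvd_of_pow_eq_one hk'
    have h11 : d = 1 := by
      rw [← orderOf_eq_one_iff]
      exact Nat.eq_one_of_dvd_coprimes ((Nat.coprime_two_right.2 hyo).pow_right k) h9 h10
    have h12 : y * r * y⁻¹ = r := by
      have : r * d = y * r * y⁻¹ := by rw [hdd]; group
      rw [← this, h11, mul_one]
    calc y * r = y * r * y⁻¹ * y := by group
      _ = r * y := by rw [h12]
  have h1 := h.self y hty key
  obtain ⟨k, hk⟩ := h.pg ⟨y, h1⟩
  have hk' : y ^ 2 ^ k = 1 := congrArg Subtype.val hk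
  apply hy1
  rw [← orderOf_eq_one_iff]
  exact Nat.eq_one_of_dvd_coprimes ((Nat.coprime_two_right.2 hyo).pow_right k) dvd_rfl (orderOf_dvd_of_pow_eq_one hk')

section

variable [Finite K]

theorem v_centralizer_conj (p : ℕ) (g t : K) : v p (centralizer {g * t * g⁻¹}) = v p (centralizer {t}) := by
  have h : (centralizer ({t} : Set K)).map (MulAut.conj g).toMonoidHom = centralizer {g * t * g⁻¹} := by
    ext x
    rw [mem_map]
    constructor
    · rintro ⟨c, hc, rfl⟩
      rw [mem_centralizer_singleton_iff] at hc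
      rw [mem_centralizer_singleton_iff]
      change g * c * g⁻¹ * (g * t * g⁻¹) = g * t * g⁻¹ * (g * c * g⁻¹)
      calc g * c * g⁻¹ * (g * t * g⁻¹) = g * (c * t) * g⁻¹ := by group
        _ = g * (t * c) * g⁻¹ := by rw [hc]
        _ = _ := by group
    · intro hx
      rw [mem_centralizer_singleton_iff] at hx
      refine ⟨g⁻¹ * x * g, ?_, by change g * (g⁻¹ * x * g) * g⁻¹ = x; group⟩
      rw [mem_centralizer_singleton_iff]
      calc g⁻¹ * x * g * t = g⁻¹ * (x * (g * t * g⁻¹)) * g := by group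
        _ = g⁻¹ * (g * t * g⁻¹ * x) * g := by rw [hx]
        _ = _ := by group
  unfold v
  rw [← h, Nat.card_congr ((centralizer ({t} : Set K)).equivMapOfInjective _ (MulAut.conj g).injective).symm.toEquiv]

/-- a Sylow 2-subgroup of `K` which is contained in `C` contains the normal 2-subgroups of `C` -/
theorem le_sylow_of {t : K} {R : Subgroup K} (h : TwoC t R) (P : Sylow 2 K) (hP : ∀ x ∈ (P : Subgroup K), x * t = t * x) :
    R ≤ P := by
  have h1 : (P : Subgroup K) ≤ normalizer (R : Set K) := by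
    intro x hx
    rw [mem_normalizer_iff]
    intro r
    refine ⟨h.norm x (hP x hx) r, fun hr => ?_⟩
    have h2 := h.norm x⁻¹ (by
      have := hP x hx
      calc x⁻¹ * t = x⁻¹ * (t * x) * x⁻¹ := by group
        _ = x⁻¹ * (x * t) * x⁻¹ := by rw [this]
        _ = t * x⁻¹ := by group) _ hr
    rw [inv_inv] at h2
    have h3 : x⁻¹ * (x * r * x⁻¹) * x = r := by group
    rwa [h3] at h2
  have h2 : IsPGroup 2 ↥((P : Subgroup K) ⊔ R) := P.isPGroup'.to_sup_of_normal_right' h.pg h1
  have h3 := P.is_maximal' h2 le_sup_left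
  have h4 : (P : Subgroup K) ⊔ R = P := h3
  rw [← h4]
  exact le_sup_right

theorem TwoC.mem {t : K} {R : Subgroup K} (h : TwoC t R) : t ∈ R := h.self t rfl fun r hr => (h.comm r hr).symm

theorem v_le_of_le {A B : Subgroup K} (h : A ≤ B) : v 2 A ≤ v 2 B := v_mono h 2

theorem v_le_top (A : Subgroup K) : v 2 A ≤ v 2 K :=
  (Nat.factorization_le_iff_dvd Nat.card_pos.ne' Nat.card_pos.ne').2 (card_subgroup_dvd_card A) 2

theorem card_sylow (P : Sylow 2 K) : Nat.card (P : Subgroup K) = 2 ^ v 2 K := by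
  have hp : Fact (Nat.Prime 2) := ⟨Nat.prime_two⟩
  exact P.card_eq_multiplicity

/-- a Sylow 2-subgroup of `C(y)` in a Sylow 2-subgroup of `K` -/
theorem exists_pair (y : K) : ∃ (D : Subgroup K) (P : Sylow 2 K), D ≤ P ∧ (∀ d ∈ D, y * d = d * y) ∧
    Nat.card D = 2 ^ v 2 (centralizer {y}) := by
  have hp : Fact (Nat.Prime 2) := ⟨Nat.prime_two⟩
  obtain ⟨S⟩ : Nonempty (Sylow 2 ↥(centralizer ({y} : Set K))) := inferInstance
  have hD : IsPGroup 2 ↥((S : Subgroup ↥(centralizer ({y} : Set K))).map (centralizer ({y} : Set K)).subtype) :=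
    S.isPGroup'.map _
  obtain ⟨P, hP⟩ := hD.exists_le_sylow
  refine ⟨_, P, hP, ?_, ?_⟩
  · rintro _ ⟨d, -, rfl⟩
    exact (mem_centralizer_singleton_iff.1 d.2).symm
  · rw [card_map_of_injective (subtype_injective _)]
    exact S.card_eq_multiplicity

/-- the Sylow subgroup centralises `u` : `v 2 (C(u)) = v 2 K` -/
theorem v_eq_of_sylow {u : K} (P : Sylow 2 K) (hP : ∀ x ∈ (P : Subgroup K), x * u = u * x) :
    v 2 (centralizer {u}) = v 2 K := by
  refine le_antisymm (v_le_top _) ?_
  have h1 : (P : Subgroup K) ≤ centralizer {u} := fun x hx => mem_centralizer_singleton_iff.2 (hP x hx)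
  have h2 := v_mono h1 2
  have h3 : v 2 (P : Subgroup K) = v 2 K := by
    change (Nat.card (P : Subgroup K)).factorization 2 = _
    rw [card_sylow, Nat.Prime.factorization_pow Nat.prime_two, Finsupp.single_eq_same]
  rwa [h3] at h2

/-- the end of both arguments: `D ≤ P` of index at most 2, centralised by `y`, `P ≤ C(u)` -/
theorem end_of {u : K} {R D : Subgroup K} (h : TwoC u R) {P : Sylow 2 K} (hP : ∀ x ∈ (P : Subgroup K), x * u = u * x)
    (hi : D.relIndex P ≤ 2) (huD : u ∈ D) {y : K} (hy : (orderOf y).Prime) (hy2 : orderOf y ≠ 2)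
    (hyD : ∀ d ∈ D, y * d = d * y) : False := by
  have hR := le_sylow_of h P hP
  refine h.not_fix (D := D) (y := y) (fun h1 => ?_) (hy.odd_of_ne_two hy2) (hyD u huD) hyD ?_
  · rw [h1, orderOf_one] at hy
    exact Nat.not_prime_one hy
  · exact (relIndex_le_of_le_right hR (Subgroup.index_ne_zero_of_finite)).trans hi

theorem v_lt_zero {t : K} {R : Subgroup K} (h : TwoC t R) (ht : v 2 (centralizer {t}) = v 2 K) {y : K}
    (hy : (orderOf y).Prime) (hy2 : orderOf y ≠ 2) : v 2 (centralizer {y}) < v 2 K := by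
  have hp : Fact (Nat.Prime 2) := ⟨Nat.prime_two⟩
  by_contra hcon
  have hyv : v 2 (centralizer {y}) = v 2 K := le_antisymm (v_le_top _) (not_lt.1 hcon)
  obtain ⟨D, P, hDP, hyD, hD⟩ := exists_pair y
  obtain ⟨D', P', hDP', htD, hD'⟩ := exists_pair t
  have e1 : D = P := by
    apply eq_of_le_of_card_ge hDP
    rw [hD, hyv, card_sylow]
  have e2 : D' = P' := by
    apply eq_of_le_of_card_ge hDP'
    rw [hD', ht, card_sylow]
  obtain ⟨g, hg⟩ := MulAction.exists_smul_eq K P P'
  have hgP : ∀ x ∈ (P : Subgroup K), g * x * g⁻¹ ∈ (P' : Subgroup K) := by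
    intro x hx
    rw [← hg]
    exact Subgroup.smul_mem_pointwise_smul x (MulAut.conj g) (P : Subgroup K) hx
  have hgP' : ∀ x ∈ (P' : Subgroup K), g⁻¹ * x * g ∈ (P : Subgroup K) := by
    intro x hx
    rw [← hg] at hx
    have h1 : x ∈ MulAut.conj g • (P : Subgroup K) := hx
    rw [Subgroup.mem_pointwise_smul_iff_inv_smul_mem] at h1
    simpa [MulAut.smul_def] using h1
  have hy' : orderOf (g * y * g⁻¹) = orderOf y := MulEquiv.orderOf_eq (MulAut.conj g) y
  refine end_of (D := (P' : Subgroup K)) (y := g * y * g⁻¹) h (P := P') (fun x hx => ?_) ?_ ?_ (hy' ▸ hy) (hy' ▸ hy2)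
    (fun x hx => ?_)
  · rw [← e2] at hx
    exact (htD x hx).symm
  · rw [relIndex_self]
    omega
  · exact le_sylow_of h P' (fun x hx => by rw [← e2] at hx; exact (htD x hx).symm) h.mem
  · have h1 := hyD _ (e1 ▸ hgP' x hx)
    calc g * y * g⁻¹ * x = g * (y * (g⁻¹ * x * g)) * g⁻¹ := by group
      _ = g * (g⁻¹ * x * g * y) * g⁻¹ := by rw [h1]
      _ = x * (g * y * g⁻¹) := by group

theorem v_lt_one' (hcl : ∀ u : K, orderOf u = 2 → v 2 (centralizer {u}) = v 2 K → ∃ R : Subgroup K, TwoC u R)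
    (h2 : 2 ≤ v 2 K) {y : K} (hy : (orderOf y).Prime) (hy2 : orderOf y ≠ 2) :
    v 2 (centralizer {y}) + 1 < v 2 K := by
  have hp : Fact (Nat.Prime 2) := ⟨Nat.prime_two⟩
  by_contra hcon
  obtain ⟨D, P, hDP, hyD, hD⟩ := exists_pair y
  have hle := v_le_top (centralizer ({y} : Set K))
  have hi : D.relIndex P ≤ 2 := by
    have h3 : Nat.card D * D.relIndex P = Nat.card (P : Subgroup K) := by
      have := card_mul_index (D.subgroupOf (P : Subgroup K))
      rwa [Nat.card_congr (subgroupOfEquivOfLe hDP).toEquiv] at this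
    rw [hD, card_sylow] at h3
    have h4 : 2 ^ v 2 K ≤ 2 ^ v 2 (centralizer ({y} : Set K)) * 2 := by
      rw [← pow_succ]
      exact Nat.pow_le_pow_right (by norm_num) (by omega)
    rw [← h3] at h4
    exact Nat.le_of_mul_le_mul_left h4 (by positivity)
  have hi0 : D.relIndex (P : Subgroup K) ≠ 0 := Subgroup.index_ne_zero_of_finite
  have hN : (D.subgroupOf (P : Subgroup K)).Normal := by
    rcases (show D.relIndex (P : Subgroup K) = 1 ∨ D.relIndex (P : Subgroup K) = 2 by omega) with h3 | h3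
    · rw [index_eq_one.1 (show (D.subgroupOf (P : Subgroup K)).index = 1 from h3)]
      infer_instance
    · exact normal_of_index_eq_two h3
  have hnil : Group.IsNilpotent ↥(P : Subgroup K) := P.isPGroup'.isNilpotent
  have hne : D.subgroupOf (P : Subgroup K) ≠ ⊥ := by
    intro h3
    have h4 : D = ⊥ := by
      rw [subgroupOf_eq_bot] at h3
      exact (disjoint_iff.1 h3 ▸ (inf_of_le_left hDP).symm :)
    rw [h4, card_bot] at hD
    have h5 : 2 ^ 1 ≤ 2 ^ v 2 (centralizer ({y} : Set K)) := Nat.pow_le_pow_right (by norm_num) (by omega)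
    omega
  have hne2 := Cfsg.Agent.Lib.NormalAbelian.normal_inf_center_ne_bot _ hne
  -- an involution
  obtain ⟨u, hu, hu2⟩ : ∃ u ∈ D.subgroupOf (P : Subgroup K) ⊓ center ↥(P : Subgroup K), orderOf u = 2 := by
    obtain ⟨k, hk⟩ := IsPGroup.iff_card.1 (P.isPGroup'.to_subgroup (D.subgroupOf (P : Subgroup K) ⊓ center ↥(P : Subgroup K)))
    have hk0 : k ≠ 0 := by
      rintro rfl
      exact hne2 (eq_bot_of_card_eq _ (by rw [hk, pow_zero]))
    obtain ⟨w, hw⟩ := exists_prime_orderOf_dvd_card' (G := ↥(D.subgroupOf (P : Subgroup K) ⊓ center ↥(P : Subgroup K))) 2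
      (by rw [hk]; exact dvd_pow_self 2 hk0)
    exact ⟨w, w.2, by rw [Subgroup.orderOf_coe, hw]⟩
  have huD : (u : K) ∈ D := mem_subgroupOf.1 hu.1
  have huP : ∀ x ∈ (P : Subgroup K), x * (u : K) = u * x := fun x hx =>
    congrArg Subtype.val (mem_center_iff.1 hu.2 ⟨x, hx⟩)
  obtain ⟨R, h'⟩ := hcl (u : K) (by rw [Subgroup.orderOf_coe, hu2]) (v_eq_of_sylow P huP)
  exact end_of h' huP hi huD hy hy2 hyD

theorem v_lt_one {t : K} {R : Subgroup K} (h : TwoC t R)
    (hcl : ∀ u : K, orderOf u = 2 → v 2 (centralizer {u}) = v 2 K → ∃ g : K, u = g * t * g⁻¹) (h2 : 2 ≤ v 2 K) {y : K}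
    (hy : (orderOf y).Prime) (hy2 : orderOf y ≠ 2) : v 2 (centralizer {y}) + 1 < v 2 K := by
  refine v_lt_one' (fun u hu huv => ?_) h2 hy hy2
  obtain ⟨g, rfl⟩ := hcl u hu huv
  exact ⟨_, h.conj g⟩

/-- the fixed points of an inner automorphism -/
theorem Fx_conj (g : K) : Fx (MulAut.conj g) = centralizer {g} := by
  ext s
  rw [mem_Fx, mem_centralizer_singleton_iff, MulAut.conj_apply, mul_inv_eq_iff_eq_mul]
  exact eq_comm

/-- **The criterion for the sporadic groups.** -/
theorem row_of [IsSimpleGroup K] (hna : ¬ IsMulCommutative K)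
    (hOI : ∀ α : MulAut K, Odd (orderOf α) → ∃ g : K, α = MulAut.conj g) {r e : ℕ} (hr : r.Prime) (hr2 : r ≠ 2)
    (hrd : r ∣ Nat.card K) (hro : ¬ r ∣ out K) (hsc : ∀ x : K, orderOf x = r → Nat.card (centralizer ({x} : Set K)) = r)
    (hout : (out K).factorization 2 ≤ e)
    (h : ∀ y : K, (orderOf y).Prime → orderOf y ≠ 2 → v 2 (centralizer {y}) + e < v 2 K) : Row K := by
  have hZ := center_eq_bot hna
  have hinj := conj_injective hZ
  have hr0 : (r : ℕ).factorization 2 = 0 := Nat.factorization_eq_zero_of_not_dvd fun h2 =>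
    hr2 ((Nat.prime_dvd_prime_iff_eq Nat.prime_two hr).1 h2).symm
  have hin : ∀ b : MulAut K, (orderOf b).Prime → orderOf b ≠ 2 → ∃ g : K, b = MulAut.conj g ∧ orderOf g = orderOf b := by
    intro b hb hb2
    obtain ⟨g, hg⟩ := hOI b (hb.odd_of_ne_two hb2)
    exact ⟨g, hg, by rw [hg, orderOf_injective _ hinj]⟩
  refine row_iso (r := r) (c := 0) hZ ⟨hr, hr2, ?_⟩ ?_ ?_ ?_
  · rw [Nat.factorization_eq_zero_of_not_dvd hro]
    exact (v_pos hr).2 hrd
  · intro x hx
    change (Nat.card (centralizer ({x} : Set K))).factorization 2 ≤ 0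
    rw [hsc x hx, hr0]
  · intro b hb hb2 x hx hbx
    obtain ⟨g, hg, hgo⟩ := hin b hb hb2
    have h1 : g ∈ centralizer ({x} : Set K) := by
      rw [mem_centralizer_singleton_iff]
      rw [hg, MulAut.conj_apply, mul_inv_eq_iff_eq_mul] at hbx
      exact hbx
    have h2 : orderOf g = r := by
      have h3 : orderOf g ∣ r := by
        rw [← hsc x hx]
        exact Subgroup.orderOf_dvd_natCard _ h1
      rcases (Nat.dvd_prime hr).1 h3 with h4 | h4
      · rw [← hgo, h4] at hb
        exact absurd hb Nat.not_prime_one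
      · exact h4
    rw [hg, Fx_conj]
    change (Nat.card (centralizer ({g} : Set K))).factorization 2 ≤ 0
    rw [hsc g h2, hr0]
  · intro b hb hb2
    obtain ⟨g, hg, hgo⟩ := hin b hb hb2
    have h1 := h g (hgo ▸ hb) (hgo ▸ hb2)
    rw [hg, Fx_conj]
    omega

theorem oi_of_out (h : out K = 1 ∨ out K = 2) (α : MulAut K) (hα : Odd (orderOf α)) : ∃ g : K, α = MulAut.conj g := by
  have hN : (MulAut.conj : K →* MulAut K).range.Normal := conj_range_normal
  have h2 : α ^ 2 ∈ (MulAut.conj : K →* MulAut K).range := by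
    rcases h with h | h
    · have h1 : (MulAut.conj : K →* MulAut K).range = ⊤ := index_eq_one.1 h
      rw [h1]
      exact mem_top _
    · have h1 := Subgroup.pow_index_mem (MulAut.conj : K →* MulAut K).range α
      rwa [show (MulAut.conj : K →* MulAut K).range.index = 2 from h] at h1
  obtain ⟨k, hk⟩ := hα
  have h3 : α = (α ^ 2) ^ (k + 1) := by
    rw [← pow_mul]
    calc α = α ^ orderOf α * α := by rw [pow_orderOf_eq_one, one_mul]
      _ = α ^ (2 * (k + 1)) := by rw [hk, ← pow_succ]; congr 1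
  obtain ⟨g, hg⟩ := Subgroup.pow_mem _ h2 (k + 1)
  exact ⟨g, h3.trans hg.symm⟩

/-- **`Out = 1`, a 2-central involution `t` with 2-constrained centraliser.** -/
theorem row_zero [IsSimpleGroup K] (hna : ¬ IsMulCommutative K) (hout : out K = 1) {r : ℕ} (hr : r.Prime) (hr2 : r ≠ 2)
    (hrd : r ∣ Nat.card K) (hsc : ∀ x : K, orderOf x = r → Nat.card (centralizer ({x} : Set K)) = r)
    {t : K} {R : Subgroup K} (h : TwoC t R) (ht : v 2 (centralizer {t}) = v 2 K) : Row K :=
  row_of (e := 0) hna (oi_of_out (Or.inl hout)) hr hr2 hrd (by rw [hout]; exact fun h => hr.one_lt.ne' (Nat.dvd_one.1 h))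
    hsc (by rw [hout]; simp) fun _ hy hy2 => v_lt_zero h ht hy hy2

/-- **`|Out| ≤ 2`, the centralisers of the 2-central involutions are 2-constrained.** -/
theorem row_one' [IsSimpleGroup K] (hna : ¬ IsMulCommutative K) (hout : out K = 1 ∨ out K = 2) {r : ℕ} (hr : r.Prime)
    (hr2 : r ≠ 2) (hrd : r ∣ Nat.card K)
    (hsc : ∀ x : K, orderOf x = r → Nat.card (centralizer ({x} : Set K)) = r)
    (hcl : ∀ u : K, orderOf u = 2 → v 2 (centralizer {u}) = v 2 K → ∃ R : Subgroup K, TwoC u R) (h2 : 2 ≤ v 2 K) :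
    Row K := by
  refine row_of (e := 1) hna (oi_of_out hout) hr hr2 hrd ?_ hsc ?_ fun _ hy hy2 => v_lt_one' hcl h2 hy hy2
  · rcases hout with h | h <;> rw [h]
    · exact fun h => hr.one_lt.ne' (Nat.dvd_one.1 h)
    · exact fun h => hr2 ((Nat.prime_dvd_prime_iff_eq hr Nat.prime_two).1 h)
  · rcases hout with h | h <;> rw [h]
    · simp
    · rw [Nat.Prime.factorization_self Nat.prime_two]

/-- **`|Out| ≤ 2`, one class of 2-central involutions, with 2-constrained centraliser.** -/
theorem row_one [IsSimpleGroup K] (hna : ¬ IsMulCommutative K) (hout : out K = 1 ∨ out K = 2) {r : ℕ} (hr : r.Prime)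
    (hr2 : r ≠ 2) (hrd : r ∣ Nat.card K)
    (hsc : ∀ x : K, orderOf x = r → Nat.card (centralizer ({x} : Set K)) = r)
    {t : K} {R : Subgroup K} (h : TwoC t R)
    (hcl : ∀ u : K, orderOf u = 2 → v 2 (centralizer {u}) = v 2 K → ∃ g : K, u = g * t * g⁻¹) (h2 : 2 ≤ v 2 K) :
    Row K := by
  refine row_of (e := 1) hna (oi_of_out hout) hr hr2 hrd ?_ hsc ?_ fun _ hy hy2 => v_lt_one h hcl h2 hy hy2
  · rcases hout with h | h <;> rw [h]
    · exact fun h => hr.one_lt.ne' (Nat.dvd_one.1 h)
    · exact fun h => hr2 ((Nat.prime_dvd_prime_iff_eq hr Nat.prime_two).1 h)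
  · rcases hout with h | h <;> rw [h]
    · simp
    · rw [Nat.Prime.factorization_self Nat.prime_two]

end

/-- a simple group of composite order is not commutative -/
theorem na_of_card [Finite K] [IsSimpleGroup K] (h : ¬ (Nat.card K).Prime) : ¬ IsMulCommutative K := by
  intro hc
  let _ : CommGroup K := { (inferInstance : Group K) with mul_comm := fun a b => hc.is_comm.comm a b }
  exact h IsSimpleGroup.prime_card

/-- computing the 2-part of a number -/
theorem fact_two {n k m : ℕ} (h : n = 2 ^ k * m) (hm : m % 2 = 1) : n.factorization 2 = k := by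
  have hm0 : m ≠ 0 := by rintro rfl; simp at hm
  rw [h, Nat.factorization_mul (by positivity) hm0, Nat.Prime.factorization_pow Nat.prime_two, Finsupp.add_apply,
    Finsupp.single_eq_same, Nat.factorization_eq_zero_of_not_dvd (by omega), add_zero]

theorem TwoC.of_sub {t : K} (Q : Subgroup ↥(centralizer ({t} : Set K))) [hN : Q.Normal] (hp : IsPGroup 2 Q)
    (hc : centralizer (Q : Set ↥(centralizer ({t} : Set K))) ≤ Q) : TwoC t (Q.map (centralizer ({t} : Set K)).subtype) where
  comm := by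
    rintro _ ⟨r, -, rfl⟩
    exact mem_centralizer_singleton_iff.1 r.2
  norm := by
    rintro c hct _ ⟨r, hr, rfl⟩
    exact ⟨_, hN.conj_mem r hr ⟨c, mem_centralizer_singleton_iff.2 hct⟩, rfl⟩
  pg := hp.map _
  self := by
    intro c hct h
    refine ⟨⟨c, mem_centralizer_singleton_iff.2 hct⟩, hc ?_, rfl⟩
    rw [mem_centralizer_iff]
    intro r hr
    exact Subtype.ext (h r ⟨r, hr, rfl⟩).symm

theorem out_eq_one (h : ∀ α : MulAut K, ∃ g : K, α = MulAut.conj g) : out K = 1 := by
  refine index_eq_one.2 (eq_top_iff.2 fun α _ => ?_)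
  obtain ⟨g, hg⟩ := h α
  exact ⟨g, hg.symm⟩

/-- the square of an automorphism is inner: not more than needed -/
theorem out_of_mul (h : ∀ a b : MulAut K, (∀ u, a ≠ MulAut.conj u) → (∀ u, b ≠ MulAut.conj u) →
    ∃ u : K, a * b = MulAut.conj u) : out K = 1 ∨ out K = 2 := by
  by_cases h1 : ∀ α : MulAut K, ∃ g : K, α = MulAut.conj g
  · exact Or.inl (out_eq_one h1)
  · right
    push Not at h1
    obtain ⟨a, ha⟩ := h1
    refine index_eq_two_iff.2 ⟨a, fun b => ?_⟩
    by_cases hb : ∃ g : K, b = MulAut.conj g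
    · obtain ⟨g, rfl⟩ := hb
      refine Or.inr ⟨⟨g, rfl⟩, ?_⟩
      rintro ⟨w, hw⟩
      refine ha (g⁻¹ * w) ?_
      rw [map_mul, map_inv, hw]
      group
    · push Not at hb
      refine Or.inl ⟨?_, fun ⟨g, hg⟩ => hb g hg.symm⟩
      obtain ⟨u, hu⟩ := h b a hb ha
      exact ⟨u, hu.symm⟩

theorem simple_congr {L : Type*} [Group L] [IsSimpleGroup K] (e : K ≃* L) : IsSimpleGroup L :=
  have : Nontrivial L := e.symm.toEquiv.nontrivial
  IsSimpleGroup.isSimpleGroup_of_surjective e.toMonoidHom e.surjective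

end Cfsg.Agent.H569.PD
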