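import Cfsg.Agent.H184.PD.Base
import Cfsg.Agent.H569.PD.Tools
import Cfsg.Agent.SevenCases.SporJ4
import Cfsg.Agent.KFacts.J4.SheetJ4
import Cfsg.Agent.H524.SporSCB

/-!
# The row of S4246 for `J4` (helper569)
-/

set_option autoImplicit false

namespace Cfsg.Agent.H569.PD

open Subgroup Cfsg Cfsg.Agent.H160.PD

/-- **The row of `J4`.** -/
theorem row_j4 {K : Type*} [Group K] [Finite K] [IsSimpleGroup K] (h : Spor.IsoJ4 K) : Row K := by
  have hc : Nat.card K = 86775571046077562880 := NotCT.Orders.j4 h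
  obtain ⟨-, -, ⟨F⟩⟩ := KFacts.J4.Base.exists_full h
  have ho : out K = 1 := out_eq_one (KFacts.J4.SheetJ4.inner F)
  exact H184.PD.row_of_evT (center_eq_bot (na_of_card (by rw [hc]; norm_num))) (H524.SporTool.sc_j4 h) (by rw [ho]; norm_num)
    (by rw [hc]; norm_num) (H184.PD.EvT.of_charTwo (SevenCases.SporJ4.charTwo h))

end Cfsg.Agent.H569.PD
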