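import Cfsg.Agent.H569.PD.Tools
import Cfsg.Agent.H799.PB.RowLyA
import Cfsg.Agent.H613.Ly5.ThirtyOne

/-!
# The row of S4246 for `Ly` (helper569)
-/

set_option autoImplicit false

namespace Cfsg.Agent.H569.PD

open Subgroup Cfsg Cfsg.Agent.H160.PD
open Cfsg.Agent Cfsg.Agent.SporRec Cfsg.Agent.SporRec.TwoAn Cfsg.Agent.SporRec.LyType Cfsg.Agent.SporRec.LyFiveCore
open Cfsg.Agent.TypeM.McLFromLy Cfsg.Agent.CpAutLy.Cov Cfsg.Agent.CpAutLy.Types Cfsg.Agent.CpAut.Cyc
open Cfsg.Agent.H709.PB Cfsg.Agent.H394.PBTools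

/-- no element of odd prime order centralises a Sylow 2-subgroup -/
theorem ly_v {G : Type*} [Group G] [Finite G] (L : LyType G) (hcard : Nat.card G = 51765179004000000) {y : G}
    (hy : (orderOf y).Prime) (hy2 : orderOf y ≠ 2) : v 2 (centralizer {y}) < v 2 G := by
  classical
  have hv : v 2 G = 8 := fact_two (m := 202207730484375) (by rw [hcard]; norm_num) (by norm_num)
  by_contra hcon
  have : Fact (Nat.Prime 2) := ⟨Nat.prime_two⟩
  obtain ⟨f, hf⟩ := LyFiveFinal.exists_five L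
  obtain ⟨D, P, hDP, hyD, hD⟩ := exists_pair y
  have hyv : v 2 (centralizer ({y} : Set G)) = v 2 G := le_antisymm (v_le_top _) (not_lt.1 hcon)
  have e1 : D = P := by
    apply eq_of_le_of_card_ge hDP
    rw [hD, hyv, card_sylow]
  have hQ1 : (P : Subgroup G) ≠ ⊥ := by
    intro h
    have h9 := card_sylow P
    rw [h, Subgroup.card_bot, hv] at h9
    revert h9
    decide
  obtain ⟨s, hs, hs2, hsc⟩ := H799.PB.exists_central P.isPGroup' hQ1
  have hsy : s * y = y * s := (hyD s (e1 ▸ hs)).symm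
  have hle : (P : Subgroup G) ≤ centralizer ({y} : Set G) ⊓ centralizer ({s} : Set G) := fun q hq =>
    ⟨mem_centralizer_singleton_iff.2 (hyD q (e1 ▸ hq)).symm, mem_centralizer_singleton_iff.2 (hsc q hq)⟩
  have h9 : 2 ^ 8 ∣ nn y s := by
    rw [← hv, ← card_sylow P]
    exact card_dvd_of_le hle
  have hr : Fact (orderOf y).Prime := ⟨hy⟩
  rcases H799.PB.nn_table L hf hy hy2 rfl hs2 hsy with ⟨-, h | h | h⟩ | ⟨-, h | h⟩ | ⟨-, h⟩ | ⟨-, h⟩
  · rw [h] at h9; revert h9; decide
  · rw [h] at h9; revert h9; decide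
  · rw [h] at h9; revert h9; decide
  · rw [h.2] at h9; revert h9; decide
  · have := h9.trans h; revert this; decide
  · rw [h] at h9; revert h9; decide
  · have := h9.trans h; revert this; decide

theorem row_ly_model [IsSimpleGroup Spor.Ly] : Row Spor.Ly := by
  have hfin : Finite Spor.Ly := Cfsg.Agent.Ly.Setup.finite_ly
  have hc : Nat.card Spor.Ly = 51765179004000000 := Cfsg.Agent.Ly.Setup.card_ly
  obtain ⟨L, -, -⟩ := H799.PB.exists_lyType
  have ho : out Spor.Ly = 1 := out_eq_one fun α => by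
    obtain ⟨g, hg⟩ := Cfsg.Agent.TypeM.OutLyFin.inner_ly α
    exact ⟨g, hg.symm⟩
  exact row_of (e := 0) (na_of_card (by rw [hc]; norm_num)) (oi_of_out (Or.inl ho)) (r := 31) (by norm_num) (by norm_num)
    (by rw [hc]; norm_num) (by rw [ho]; norm_num)
    (fun x hx => H613.Ly5.ThirtyOne.card_centralizer31 ⟨MulEquiv.refl _⟩ hx) (by rw [ho]; simp)
    fun y hy hy2 => ly_v L hc hy hy2

/-- **The row of `Ly`.** -/
theorem row_ly {K : Type*} [Group K] [Finite K] [IsSimpleGroup K] (h : Spor.IsoLy K) : Row K := by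
  obtain ⟨e⟩ := h
  have := simple_congr e
  exact row_ly_model.congr e

end Cfsg.Agent.H569.PD
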