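import Cfsg.Agent.H569.PD.LargeC
import Cfsg.Agent.H568.SC.Mon
import Cfsg.Agent.KFacts.MonsterE

/-!
# The row of S4246 for `M` (helper569)
-/

set_option autoImplicit false

namespace Cfsg.Agent.H569.PD

open Subgroup Cfsg Cfsg.Agent.H160.PD

section

open Cfsg.Spor (Co1)
open Cfsg.Agent.MonsterX Cfsg.Agent.MonsterX.Model Cfsg.Agent.MonsterX.MainSimple Cfsg.Agent.MonsterX.MainBasic

theorem row_m_of {W : Type} [AddCommGroup W] [Module ℚ W] {M : MData W} (hG : MGroup M Co1) (hR : MRep M)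
    (hL : MLat M) (hO : MOrbit M) (hT : MTrans M) [IsSimpleGroup M.G] (hsc : Cfsg.Agent.H537.Cop.SC 59 M.G)
    (hc : Nat.card M.G = 808017424794512875886459904961710757005754368000000000) : Row M.G := by
  have hfin := G_finite hO
  have hco := Cfsg.Agent.KFacts.MonsterE.simple_Co1
  obtain ⟨π, D⟩ := Cfsg.Agent.KFacts.MonsterE.data_model hG hR hL hO hT
  exact row_zero (na_of_card (by rw [hc]; norm_num)) (out_eq_one D.inner) (r := 59) (by norm_num) (by norm_num)
    (by rw [hc]; norm_num) hsc (TwoC.of_large D.large) (v_of_odd_index D.odd)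

theorem row_m_model (hK : Cfsg.Agent.H995.CopEngine.AllKnown.{0}) : Row Cfsg.Agent.H568.SC.Mon.MG := by
  have h := Cfsg.Agent.MonsterP.EquivOf.isM_model
  have hs := h.1
  exact row_m_of Instance.mGroup Instance.mRep Instance.mLat InstanceFinal.mOrbit Instance.mTrans
    (Cfsg.Agent.H568.SC.Mon.sc_model hK) h.2

end

/-- **The row of `M`.** -/
theorem row_m (hK : Cfsg.Agent.H995.CopEngine.AllKnown.{0}) {K : Type*} [Group K] [Finite K] [IsSimpleGroup K]
    (h : Spor.IsoM K) : Row K := by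
  obtain ⟨e⟩ := h
  obtain ⟨f⟩ := Cfsg.Agent.MonsterP.Equiv.equiv
  exact Row.congr (e.trans f) (row_m_model hK)

end Cfsg.Agent.H569.PD
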