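import Cfsg.Agent.H569.PD.Tools
import Cfsg.Agent.MonsterX.ThOneClass
import Cfsg.Agent.KFacts.Th.Main
import Cfsg.Agent.H981.SCTh
import Cfsg.Agent.NotCT.Orders

/-!
# The row of S4246 for `Th` (helper569)
-/

set_option autoImplicit false

namespace Cfsg.Agent.H569.PD

open Subgroup Cfsg Cfsg.Agent.H160.PD

theorem row_th_model [IsSimpleGroup Spor.Th] : Row Spor.Th := by
  have hc : Nat.card Spor.Th = 90745943887872000 := NotCT.Orders.th ⟨MulEquiv.refl _⟩
  have hfin : Finite Spor.Th := Nat.finite_of_card_ne_zero (by rw [hc]; norm_num)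
  have hv : v 2 Spor.Th = 15 := fact_two (m := 2769346432125) (by rw [hc]; norm_num) (by norm_num)
  obtain ⟨Q, hQ, hQc, -, hcQ, -⟩ := Cfsg.Agent.MonsterX.ThOneClass.struct
  have hp : Fact (Nat.Prime 2) := ⟨Nat.prime_two⟩
  refine row_zero (na_of_card (by rw [hc]; norm_num)) (out_eq_one Cfsg.Agent.KFacts.Th.Main.inner) (r := 19) (by norm_num)
    (by norm_num) (by rw [hc]; norm_num) Cfsg.Agent.H981.SCTh.sc_th (TwoC.of_sub Q (IsPGroup.of_card hQc) hcQ) ?_
  rw [hv]
  exact fact_two (m := 2835) (by rw [Cfsg.Agent.MonsterX.ThOneClass.card_a]; norm_num) (by norm_num)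

/-- **The row of `Th`.** -/
theorem row_th {K : Type*} [Group K] [Finite K] [IsSimpleGroup K] (h : Spor.IsoTh K) : Row K := by
  obtain ⟨e⟩ := h
  have := simple_congr e
  exact row_th_model.congr e

end Cfsg.Agent.H569.PD
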