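import Cfsg.Agent.H569.PD.Tools
import Cfsg.Agent.LargeExtra.Base

/-!
# Rows of S4246 for sporadic groups: large subgroups of centralisers (helper569)
-/

set_option autoImplicit false

namespace Cfsg.Agent.H569.PD

open Subgroup Cfsg.Agent.H160.PD

universe u

theorem TwoC.of_large {G : Type u} [Group G] [Finite G] {Q : Subgroup G} {z : G}
    (h : Cfsg.Agent.Co2Type.Quad.Large Q z) : TwoC z Q where
  comm x hx := h.comm_z x hx
  norm c hc r hr := h.conj_mem c hc r hr
  pg := Cfsg.Agent.LargeExtra.Base.isPGroup h
  self c hc hr := h.self c hc hr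

theorem v_of_odd_index {K : Type*} [Group K] [Finite K] {t : K} (h : Odd (centralizer ({t} : Set K)).index) :
    v 2 (centralizer ({t} : Set K)) = v 2 K := by
  have h1 : Nat.card K = Nat.card (centralizer ({t} : Set K)) * (centralizer ({t} : Set K)).index :=
    (card_mul_index _).symm
  change (Nat.card (centralizer ({t} : Set K))).factorization 2 = (Nat.card K).factorization 2
  rw [h1, Nat.factorization_mul Nat.card_pos.ne' (Subgroup.index_ne_zero_of_finite), Finsupp.add_apply,
    Nat.factorization_eq_zero_of_not_dvd (n := (centralizer ({t} : Set K)).index) (p := 2)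
      (fun h2 => by rw [Nat.odd_iff] at h; omega), add_zero]

end Cfsg.Agent.H569.PD
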