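import Cfsg.Agent.H569.PD.Tools

/-!
# Rows of S4246 for sporadic groups: reduction to a quotient of a centraliser (helper569)
-/

set_option autoImplicit false
set_option linter.unusedSectionVars false

namespace Cfsg.Agent.H569.PD

open Subgroup Cfsg.Agent.H160.PD
open scoped Pointwise

variable {X Y : Type*} [Group X] [Finite X] [Group Y] [Finite Y]

theorem mem_sylow_of_cent {z : X} (hz : orderOf z = 2) (P : Sylow 2 X) (hP : ∀ x ∈ (P : Subgroup X), x * z = z * x) :
    z ∈ (P : Subgroup X) := by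
  have hp : Fact (Nat.Prime 2) := ⟨Nat.prime_two⟩
  have h0 : IsPGroup 2 ↥(zpowers z) := IsPGroup.of_card (n := 1) (by rw [Nat.card_zpowers, hz, pow_one])
  have h1 : (P : Subgroup X) ≤ normalizer (zpowers z : Set X) := by
    refine le_trans ?_ (centralizer_le_normalizer _)
    intro x hx
    rw [mem_centralizer_iff]
    rintro _ ⟨k, rfl⟩
    exact ((show Commute x z from hP x hx).zpow_right k).symm.eq
  have h2 : IsPGroup 2 ↥((P : Subgroup X) ⊔ zpowers z) := P.isPGroup'.to_sup_of_normal_right' h0 h1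
  have h3 : (P : Subgroup X) ⊔ zpowers z = P := P.is_maximal' h2 le_sup_left
  rw [← h3]
  exact (le_sup_right : zpowers z ≤ _) (mem_zpowers z)

/-- `y` centralises `P`, `z ∈ P ≤ C(z)` -/
theorem v_image {z : X} (φ : ↥(centralizer ({z} : Set X)) →* Y) (hk : IsPGroup 2 φ.ker) {D : Subgroup X}
    {n : ℕ} (hD : Nat.card D = 2 ^ n) (hDz : D ≤ centralizer ({z} : Set X)) {y : X} (hy : (orderOf y).Prime)
    (hy2 : orderOf y ≠ 2) (hyz : y ∈ centralizer ({z} : Set X)) (hyD : ∀ d ∈ D, y * d = d * y) :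
    orderOf (φ ⟨y, hyz⟩) = orderOf y ∧ n ≤ v 2 (centralizer {φ ⟨y, hyz⟩}) + v 2 φ.ker := by
  have hp : Fact (Nat.Prime 2) := ⟨Nat.prime_two⟩
  constructor
  · have h1 : orderOf (φ ⟨y, hyz⟩) ∣ orderOf y := by
      have := orderOf_map_dvd φ ⟨y, hyz⟩
      rwa [Subgroup.orderOf_mk] at this
    rcases (Nat.dvd_prime hy).1 h1 with h2 | h2
    · exfalso
      rw [orderOf_eq_one_iff] at h2
      obtain ⟨k, hk'⟩ := hk ⟨⟨y, hyz⟩, h2⟩
      have h3 : y ^ 2 ^ k = 1 := congrArg (fun w : φ.ker => ((w : ↥(centralizer ({z} : Set X))) : X)) hk'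
      have h4 : orderOf y ∣ 2 ^ k := orderOf_dvd_of_pow_eq_one h3
      exact hy2 ((Nat.prime_dvd_prime_iff_eq hy Nat.prime_two).1 (hy.dvd_of_dvd_pow h4))
    · exact h2
  · set S : Subgroup Y := (D.subgroupOf (centralizer ({z} : Set X))).map φ with hS
    have h1 : S ≤ centralizer {φ ⟨y, hyz⟩} := by
      rintro _ ⟨d, hd, rfl⟩
      rw [mem_centralizer_singleton_iff, ← map_mul, ← map_mul]
      congr 1
      exact Subtype.ext (hyD d (mem_subgroupOf.1 hd)).symm
    have h2 : Nat.card (D.subgroupOf (centralizer ({z} : Set X))) = 2 ^ n := by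
      rw [Nat.card_congr (subgroupOfEquivOfLe hDz).toEquiv, hD]
    -- the restriction of `φ`
    let ψ : ↥(D.subgroupOf (centralizer ({z} : Set X))) →* Y := φ.comp (D.subgroupOf (centralizer ({z} : Set X))).subtype
    have h3 : Nat.card ψ.range * Nat.card ψ.ker = 2 ^ n := by
      rw [← h2, ← ψ.ker.card_mul_index, Subgroup.index_ker]
      exact mul_comm _ _
    have h4 : ψ.range = S := by
      rw [hS, MonoidHom.range_comp, range_subtype]
    have h5 : Nat.card ψ.ker ∣ Nat.card φ.ker := by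
      let i : ψ.ker →* φ.ker :=
        { toFun := fun w => ⟨(w : ↥(D.subgroupOf (centralizer ({z} : Set X)))), w.2⟩
          map_one' := rfl
          map_mul' := fun _ _ => rfl }
      refine card_dvd_of_injective i fun a b hab => ?_
      have : (((a : ↥(D.subgroupOf (centralizer ({z} : Set X)))) : ↥(centralizer ({z} : Set X)))) =
          ((b : ↥(D.subgroupOf (centralizer ({z} : Set X)))) : ↥(centralizer ({z} : Set X))) :=
        congrArg (fun w : φ.ker => (w : ↥(centralizer ({z} : Set X)))) hab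
      exact Subtype.ext (Subtype.ext this)
    have h6 : n = v 2 ψ.range + v 2 ψ.ker := by
      change n = (Nat.card ψ.range).factorization 2 + (Nat.card ψ.ker).factorization 2
      rw [← Finsupp.add_apply, ← Nat.factorization_mul Nat.card_pos.ne' Nat.card_pos.ne', h3,
        Nat.Prime.factorization_pow Nat.prime_two, Finsupp.single_eq_same]
    have h7 : v 2 ψ.ker ≤ v 2 φ.ker := (Nat.factorization_le_iff_dvd Nat.card_pos.ne' Nat.card_pos.ne').2 h5 2
    have h8 : v 2 ψ.range ≤ v 2 (centralizer {φ ⟨y, hyz⟩}) := by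
      rw [h4]
      exact v_mono h1 2
    omega

theorem v_lt_zero_of_hom {z : X} (hzo : orderOf z = 2) (hz : v 2 (centralizer {z}) = v 2 X)
    (φ : ↥(centralizer ({z} : Set X)) →* Y) (hk : IsPGroup 2 φ.ker) (hc : v 2 Y + v 2 φ.ker ≤ v 2 X)
    (hY : ∀ y : Y, (orderOf y).Prime → orderOf y ≠ 2 → v 2 (centralizer {y}) < v 2 Y) {y : X} (hy : (orderOf y).Prime)
    (hy2 : orderOf y ≠ 2) : v 2 (centralizer {y}) < v 2 X := by
  have hp : Fact (Nat.Prime 2) := ⟨Nat.prime_two⟩
  by_contra hcon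
  have hyv : v 2 (centralizer {y}) = v 2 X := le_antisymm (v_le_top _) (not_lt.1 hcon)
  obtain ⟨D, P, hDP, hyD, hD⟩ := exists_pair y
  obtain ⟨D', P', hDP', htD, hD'⟩ := exists_pair z
  have e1 : D = P := by
    apply eq_of_le_of_card_ge hDP
    rw [hD, hyv, card_sylow]
  have e2 : D' = P' := by
    apply eq_of_le_of_card_ge hDP'
    rw [hD', hz, card_sylow]
  obtain ⟨g, hg⟩ := MulAction.exists_smul_eq X P P'
  have hgP' : ∀ x ∈ (P' : Subgroup X), g⁻¹ * x * g ∈ (P : Subgroup X) := by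
    intro x hx
    rw [← hg] at hx
    have h1 : x ∈ MulAut.conj g • (P : Subgroup X) := hx
    rw [Subgroup.mem_pointwise_smul_iff_inv_smul_mem] at h1
    simpa [MulAut.smul_def] using h1
  have hy' : orderOf (g * y * g⁻¹) = orderOf y := MulEquiv.orderOf_eq (MulAut.conj g) y
  have hP'z : ∀ x ∈ (P' : Subgroup X), x * z = z * x := fun x hx => by
    rw [← e2] at hx
    exact (htD x hx).symm
  have hyP' : ∀ x ∈ (P' : Subgroup X), g * y * g⁻¹ * x = x * (g * y * g⁻¹) := by
    intro x hx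
    have h1 := hyD _ (e1 ▸ hgP' x hx)
    calc g * y * g⁻¹ * x = g * (y * (g⁻¹ * x * g)) * g⁻¹ := by group
      _ = g * (g⁻¹ * x * g * y) * g⁻¹ := by rw [h1]
      _ = x * (g * y * g⁻¹) := by group
  have hzP := mem_sylow_of_cent hzo P' hP'z
  have hyz : g * y * g⁻¹ ∈ centralizer ({z} : Set X) := mem_centralizer_singleton_iff.2 (hyP' z hzP)
  obtain ⟨h1, h2⟩ := v_image φ hk (card_sylow P') (fun x hx => mem_centralizer_singleton_iff.2 (hP'z x hx))
    (by rwa [hy']) (by rwa [hy']) hyz hyP'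
  have h3 := hY _ (by rw [h1, hy']; exact hy) (by rw [h1, hy']; exact hy2)
  omega

end Cfsg.Agent.H569.PD
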