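import Cfsg.Agent.H569.PD.Tools
import Cfsg.Agent.CTwoTab.Base
import Cfsg.Agent.Dichotomy.CoreTools
import Cfsg.Agent.Lib.GenFitting

/-!
# S4246, sporadic rows: centralisers of involutions without components (helper569)

`TwoC.of_no_comp` : `O(C(t)) = 1` and `C(t)` has no component: `TwoC t (O_2(C(t)))`.
-/

set_option autoImplicit false

namespace Cfsg.Agent.H569.PD

open Subgroup Cfsg Cfsg.Agent.H160.PD

universe u

variable {X : Type u} [Group X] [Finite X]

theorem centralizer_pCore_le (hO : pPrimeCore 2 X = ⊥) (hno : ∀ K : Subgroup X, ¬ IsComponent K) :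
    centralizer (pCore 2 X : Set X) ≤ pCore 2 X := by
  have hp2 : Fact (Nat.Prime 2) := ⟨Nat.prime_two⟩
  have hl : layer X = ⊥ := by
    rw [eq_bot_iff]
    exact sSup_le fun K hK => absurd hK (hno K)
  have h : generalizedFittingSubgroup X = pCore 2 X := by
    unfold generalizedFittingSubgroup
    rw [hl, bot_sup_eq]
    apply le_antisymm
    · rw [Lib.Cores.fittingSubgroup_eq_iSup_pCore]
      refine iSup_le ?_
      rintro ⟨q, hq⟩
      by_cases hqp : q = 2
      · subst hqp; exact le_rfl
      · have h1 : pCore q X ≤ pPrimeCore 2 X := by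
          refine Lib.Cores.le_pPrimeCore inferInstance ?_
          haveI : Fact q.Prime := ⟨hq⟩
          obtain ⟨n, hn⟩ := (IsPGroup.iff_card (p := q)).1 (Lib.Cores.pCore_isPGroup (G := X) q)
          rw [hn]
          exact Nat.Coprime.pow_left n ((Nat.coprime_primes hq Nat.prime_two).2 hqp)
        rw [hO] at h1
        exact h1.trans bot_le
    · exact Lib.Cores.pCore_le_fittingSubgroup 2
  have h4 := Cfsg.Agent.Lib.GenFitting.centralizer_genFitting_le (G := X)
  rwa [h] at h4

theorem TwoC.of_no_comp {t : X} (hcore : centralizerPPrimeCore 2 t = ⊥)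
    (hno : ∀ K : Subgroup X, ¬ IsComponentOf K (centralizer ({t} : Set X))) :
    TwoC t ((pCore 2 ↥(centralizer ({t} : Set X))).map (centralizer ({t} : Set X)).subtype) := by
  have hp2 : Fact (Nat.Prime 2) := ⟨Nat.prime_two⟩
  refine TwoC.of_sub _ (Lib.Cores.pCore_isPGroup 2) (centralizer_pCore_le
    (Cfsg.Agent.CTwoTab.centralizerPPrimeCore_eq_bot_iff.1 hcore) fun K hK => ?_)
  refine hno (K.map (centralizer ({t} : Set X)).subtype) ⟨map_subtype_le _, ?_⟩
  have h1 : (K.map (centralizer ({t} : Set X)).subtype).subgroupOf (centralizer ({t} : Set X)) = K :=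
    Subgroup.comap_map_eq_self_of_injective (subtype_injective _) K
  rwa [h1]

end Cfsg.Agent.H569.PD
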